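import Groth.Agent.AlgSp2.ModifSections.Main

/-!
# Morphisms of etale spaces glue along modifications
-/

set_option autoImplicit false
set_option backward.isDefEq.respectTransparency.types false
set_option linter.unusedSectionVars false
universe u

open CategoryTheory CategoryTheory.Limits AlgebraicGeometry Opposite AlgSp

namespace Groth.AlgSp2.ModifSections

open Groth.AlgSpBasic Groth.AlgSp2

noncomputable section

variable {S : Scheme.{u}} {Y Y' Z E U U' V₁ V₂ V₁' V₂' W₁ W₂ P₁ : Sp S}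

/-- Off the centre a modification has unique lifts. -/
theorem existsUnique_lift_off {f : Y' ⟶ Y} {i : Z ⟶ Y} {jU : U ⟶ Y}
    (hjU : RepWith @IsOpenImmersion jU)
    (hU : Set.range (Points.map jU) = (Set.range (Points.map i))ᶜ) {fU : U' ⟶ U} {jU' : U' ⟶ Y'}
    (hU' : IsPullback jU' fU f jU) [IsIso fU] {T : Over S} (y : (yon S).obj T ⟶ Y)
    (hy : ∀ t, Points.ofPt y t ∉ Set.range (Points.map i)) :
    ∃! l : (yon S).obj T ⟶ Y', l ≫ f = y := by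
  have : Mono jU := mono_of_repWith (fun _ _ k (_ : IsOpenImmersion k) => inferInstance) hjU
  obtain ⟨O, o, fo, sq⟩ := hjU.rep y
  have : IsOpenImmersion o.left := hjU.property _ fo o sq
  have : Surjective o.left := ⟨fun t => by
    obtain ⟨z, hz⟩ := hU.ge (hy t)
    obtain ⟨v, -, hv⟩ := (map_eq_ofPt_iff sq z t).1 hz
    exact ⟨v, hv⟩⟩
  haveI : IsIso o.left := (isIso_iff_isOpenImmersion_and_surjective o.left).2 ⟨‹_›, ‹_›⟩
  haveI : IsIso ((Over.forget S).map o) := ‹IsIso o.left›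
  haveI : IsIso o := isIso_of_reflects_iso o (Over.forget S)
  let b : (yon S).obj T ⟶ U := (yon S).map (inv o) ≫ fo
  have hb : b ≫ jU = y := by
    rw [Category.assoc, sq.w, ← Functor.map_comp_assoc, IsIso.inv_hom_id, (yon S).map_id,
      Category.id_comp]
  refine ⟨(b ≫ inv fU) ≫ jU', ?_, fun l hl => ?_⟩
  · show ((b ≫ inv fU) ≫ jU') ≫ f = y
    rw [Category.assoc, hU'.w, Category.assoc, IsIso.inv_hom_id_assoc, hb]
  · have e : hU'.lift l b (hl.trans hb.symm) = b ≫ inv fU := by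
      rw [IsIso.eq_comp_inv, hU'.lift_snd]
    rw [← e, hU'.lift_fst]

/-- Morphisms of etale spaces are glued from their base changes to a modification and its centre. -/
theorem existsUnique_hom_glue (hY : IsAlgSpace Y) (hV₁' : IsAlgSpace V₁')
    (hW₁ : IsAlgSpace W₁) (hV₁ : IsAlgSpace V₁) (hV₂ : IsAlgSpace V₂)
    {f : Y' ⟶ Y} (hf : IsUnivClosedMor f) {i : Z ⟶ Y} (hi : RepWith @IsClosedImmersion i)
    {j : E ⟶ Y'} {g : E ⟶ Z} (hE : IsPullback j g f i) {jU : U ⟶ Y}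
    (hjU : RepWith @IsOpenImmersion jU)
    (hU : Set.range (Points.map jU) = (Set.range (Points.map i))ᶜ) {fU : U' ⟶ U} {jU' : U' ⟶ Y'}
    (hU' : IsPullback jU' fU f jU) [IsIso fU] {v₁ : V₁ ⟶ Y} {v₂ : V₂ ⟶ Y} (hv₂ : IsEtaleMor v₂)
    {a₁ : V₁' ⟶ V₁} {p₁ : V₁' ⟶ Y'} (ha₁ : IsPullback a₁ p₁ v₁ f)
    {a₂ : V₂' ⟶ V₂} {p₂ : V₂' ⟶ Y'} (ha₂ : IsPullback a₂ p₂ v₂ f)
    {b₁ : W₁ ⟶ V₁} {q₁ : W₁ ⟶ Z} (hb₁ : IsPullback b₁ q₁ v₁ i)
    {b₂ : W₂ ⟶ V₂} {q₂ : W₂ ⟶ Z} (hb₂ : IsPullback b₂ q₂ v₂ i)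
    {r₁ : P₁ ⟶ V₁'} {s₁ : P₁ ⟶ W₁} {e₁ : P₁ ⟶ E}
    (hr₁ : IsPullback r₁ e₁ p₁ j) (hs₁ : IsPullback s₁ e₁ q₁ g) (hP₁ : r₁ ≫ a₁ = s₁ ≫ b₁)
    (m' : V₁' ⟶ V₂') (hm' : m' ≫ p₂ = p₁) (n : W₁ ⟶ W₂) (hn : n ≫ q₂ = q₁)
    (hmn : r₁ ≫ m' ≫ a₂ = s₁ ≫ n ≫ b₂) :
    ∃! m : V₁ ⟶ V₂, m ≫ v₂ = v₁ ∧ a₁ ≫ m = m' ≫ a₂ ∧ b₁ ≫ m = n ≫ b₂ := by
  have sqP : IsPullback s₁ r₁ b₁ a₁ := by
    refine IsPullback.of_right ?_ hP₁.symm hb₁.flip
    have h := hr₁.flip.paste_horiz hE.flip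
    rw [← ha₁.w] at h
    rwa [hs₁.w]
  have hb : RepWith @IsClosedImmersion b₁ := repWith_of_isPullback hb₁.flip hi
  have hfb : IsUnivClosedMor a₁ := fun A A' hA k fst snd sq =>
    hf hA (k ≫ v₁) (fst ≫ p₁) snd (sq.paste_horiz ha₁.flip)
  let F := pullback v₁ v₂
  have hF : IsAlgSpace F := isAlgSpace_of_isPullback (IsPullback.of_hasPullback v₁ v₂) hY.diag hV₁ hV₂
  have he : IsEtaleMor (pullback.fst v₁ v₂) :=
    isEtaleMor_of_isPullback hV₂ hY hV₁ (IsPullback.of_hasPullback v₁ v₂).flip hv₂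
  let s' : V₁' ⟶ F := pullback.lift a₁ (m' ≫ a₂) (by
    rw [ha₁.w, Category.assoc, ha₂.w, reassoc_of% hm'])
  let sZ : W₁ ⟶ F := pullback.lift b₁ (n ≫ b₂) (by
    rw [hb₁.w, Category.assoc, hb₂.w, reassoc_of% hn])
  have H : ∀ {T : Over S} (y : (yon S).obj T ⟶ V₁),
      (∀ t, Points.ofPt y t ∉ Set.range (Points.map b₁)) →
      ∃! l : (yon S).obj T ⟶ V₁', l ≫ a₁ = y := fun {T} y hy => by
    obtain ⟨l, hl, hlu⟩ := existsUnique_lift_off hjU hU hU' (y ≫ v₁) fun t ⟨z, hz⟩ => by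
      obtain ⟨w, hw, -⟩ := Groth.AlgSpBasic.exists_point_of_isPullback hb₁ (Points.ofPt y t) z
        (by rw [Points.map_ofPt, hz])
      exact hy t ⟨w, hw⟩
    refine ⟨ha₁.lift y l hl.symm, ha₁.lift_fst _ _ _, fun l' hl' => ?_⟩
    refine ha₁.hom_ext (hl'.trans (ha₁.lift_fst _ _ _).symm) ?_
    rw [ha₁.lift_snd]
    exact hlu _ (by show (l' ≫ p₁) ≫ f = _; rw [Category.assoc, ← ha₁.w, reassoc_of% hl'])
  have hc : ∀ {T : Over S} (l : (yon S).obj T ⟶ V₁') (z : (yon S).obj T ⟶ W₁),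
      l ≫ a₁ = z ≫ b₁ → l ≫ s' = z ≫ sZ := fun l z hlz => by
    have e := sqP.lift z l hlz.symm ≫= hmn
    rw [sqP.lift_fst_assoc, sqP.lift_snd_assoc] at e
    refine pullback.hom_ext ?_ ?_
    · simp only [s', sZ, Category.assoc, pullback.lift_fst, hlz]
    · simp only [s', sZ, Category.assoc, pullback.lift_snd, e]
  obtain ⟨s, ⟨hs₁', hs₂', hs₃'⟩, hsu⟩ := existsUnique_section a₁ b₁ (pullback.fst v₁ v₂) s' sZ hb
    (pullback.lift_fst _ _ _) (pullback.lift_fst _ _ _) H hc hV₁ hV₁' hW₁ hF he hfb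
  refine ⟨s ≫ pullback.snd v₁ v₂, ⟨?_, ?_, ?_⟩, fun m ⟨h₁, h₂, h₃⟩ => ?_⟩
  · rw [Category.assoc, ← pullback.condition, ← Category.assoc, hs₁', Category.id_comp]
  · rw [← Category.assoc, hs₂', pullback.lift_snd]
  · rw [← Category.assoc, hs₃', pullback.lift_snd]
  · rw [← hsu (pullback.lift (𝟙 V₁) m (by rw [h₁, Category.id_comp])) ⟨pullback.lift_fst _ _ _, ?_, ?_⟩,
      pullback.lift_snd]
    · exact pullback.hom_ext (by rw [Category.assoc, pullback.lift_fst, pullback.lift_fst, Category.comp_id])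
        (by rw [Category.assoc, pullback.lift_snd, pullback.lift_snd, h₂])
    · exact pullback.hom_ext (by rw [Category.assoc, pullback.lift_fst, pullback.lift_fst, Category.comp_id])
        (by rw [Category.assoc, pullback.lift_snd, pullback.lift_snd, h₃])

end

end Groth.AlgSp2.ModifSections
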