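import Groth.Agent.AlgSpBasic.OpenSub
import Groth.Agent.AlgSpBasic.FiltrationSpaces
import Groth.Agent.AlgSpBasic.Unramified
import Groth.Agent.AlgSpBasic.LocPInst
import Groth.Agent.AlgSpBasic.AlgSpace
import Groth.Agent.AlgSpBasic.ColimitSep
import Groth.Agent.AlgSpBasic.Univ
import Groth.Agent.AlgSp2.Locality

/-!
# Sections of etale spaces glue along modifications
-/

set_option autoImplicit false
set_option backward.isDefEq.respectTransparency.types false
set_option linter.unusedSectionVars false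
universe u

open CategoryTheory CategoryTheory.Limits AlgebraicGeometry Opposite AlgSp

namespace Groth.AlgSp2.ModifSections

open Groth.AlgSpBasic Groth.AlgSp2

noncomputable section

variable {S : Scheme.{u}} {Y Y' Z E : Sp S}

theorem ofPt_fieldPtHom {F : Sp S} (p : FieldPt F) (t : p.pt.left) :
    Points.ofPt (fieldPtHom p) t = Points.mk p := by
  obtain rfl : t = IsLocalRing.closedPoint p.K := Subsingleton.elim (α := PrimeSpectrum p.K) _ _
  refine (Points.ofPt_eq_map_ofScheme (T := p.pt) (fieldPtHom p) (IsLocalRing.closedPoint p.K)).trans ?_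
  have key := Points.ofScheme_apply_eq_mk p.pt (str := p.str) (𝟙 _) (Category.id_comp _)
  refine Eq.trans (congrArg (Points.map (fieldPtHom p)) key) ?_
  refine Eq.trans (Points.map_mk _ _) (congrArg Points.mk ?_)
  obtain ⟨K, str, val⟩ := p
  change (⟨K, str, _⟩ : FieldPt F) = ⟨K, str, val⟩
  congr 1
  refine Eq.trans ?_ ((J S).uliftYonedaEquiv.{u + 1}.apply_symm_apply val)
  exact ((J S).uliftYonedaEquiv_apply _).symm

/-- A field point in the image lifts after a field extension. -/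
theorem exists_lift_field {A F : Sp S} (k : A ⟶ F) {K : Type u} [Field K]
    {str : Spec (CommRingCat.of K) ⟶ S} (c : (yon S).obj (Over.mk str) ⟶ F)
    (t : (Over.mk str).left) (h : Points.ofPt c t ∈ Set.range (Points.map k)) :
    ∃ (Ω : Type u) (_ : Field Ω) (w : Spec (CommRingCat.of Ω) ⟶ S) (ε : Over.mk w ⟶ Over.mk str)
      (d : (yon S).obj (Over.mk w) ⟶ A), d ≫ k = (yon S).map ε ≫ c := by
  let q : FieldPt F := { K := K, str := str, val := yEquiv c }
  have hq : fieldPtHom q = c := Equiv.symm_apply_apply _ _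
  have hc : Points.ofPt c t = Points.mk q := by rw [← ofPt_fieldPtHom q t, hq]
  obtain ⟨x, hx⟩ := h
  obtain ⟨r, rfl⟩ := Points.mk_surjective x
  rw [hc, Points.map_mk, Points.mk_eq_mk_iff] at hx
  obtain ⟨Ω, hΩ, w, a, b, e⟩ := Groth.AlgSpBasic.rel_iff.1 hx
  rw [fieldPtHom_map, hq] at e
  exact ⟨Ω, hΩ, w, b, (yon S).map a ≫ fieldPtHom r, (Category.assoc _ _ _).trans e⟩

variable (f : Y' ⟶ Y) (i : Z ⟶ Y) (e : E ⟶ Y) (s' : Y' ⟶ E) (sZ : Z ⟶ E)

/-- The values of the two partial sections. -/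
def IsVal {T : Over S} (x : (yon S).obj T ⟶ E) : Prop :=
  (∃ l, l ≫ s' = x) ∨ (∃ z, z ≫ sZ = x)

theorem IsVal.precomp {s' : Y' ⟶ E} {sZ : Z ⟶ E} {T T' : Over S} {x : (yon S).obj T ⟶ E}
    (h : IsVal s' sZ x) (k : T' ⟶ T) : IsVal s' sZ ((yon S).map k ≫ x) := by
  rcases h with ⟨l, rfl⟩ | ⟨l, rfl⟩
  exacts [Or.inl ⟨(yon S).map k ≫ l, Category.assoc _ _ _⟩,
    Or.inr ⟨(yon S).map k ≫ l, Category.assoc _ _ _⟩]

/-- The points of values. -/
def valSet : Set (Points E) := Set.range (Points.map s') ∪ Set.range (Points.map sZ)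

theorem exists_isVal {K : Type u} [Field K] {str : Spec (CommRingCat.of K) ⟶ S}
    (x : (yon S).obj (Over.mk str) ⟶ E) (t : (Over.mk str).left)
    (h : Points.ofPt x t ∈ valSet s' sZ) :
    ∃ (Ω : Type u) (_ : Field Ω) (w : Spec (CommRingCat.of Ω) ⟶ S) (ε : Over.mk w ⟶ Over.mk str),
      IsVal s' sZ ((yon S).map ε ≫ x) := by
  rcases h with h | h
  · obtain ⟨Ω, hΩ, w, ε, d, hd⟩ := exists_lift_field _ x t h
    exact ⟨Ω, hΩ, w, ε, Or.inl ⟨d, hd⟩⟩
  · obtain ⟨Ω, hΩ, w, ε, d, hd⟩ := exists_lift_field _ x t h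
    exact ⟨Ω, hΩ, w, ε, Or.inr ⟨d, hd⟩⟩

section

variable (hi : RepWith @IsClosedImmersion i) (hs' : s' ≫ e = f) (hsZ : sZ ≫ e = i)
  (H : ∀ {T : Over S} (y : (yon S).obj T ⟶ Y), (∀ t, Points.ofPt y t ∉ Set.range (Points.map i)) →
    ∃! l : (yon S).obj T ⟶ Y', l ≫ f = y)
  (hc : ∀ {T : Over S} (l : (yon S).obj T ⟶ Y') (z : (yon S).obj T ⟶ Z),
    l ≫ f = z ≫ i → l ≫ s' = z ≫ sZ)

include hi hs' hsZ H hc in
/-- A value on a field point is determined by its image. -/
theorem isVal_unique {K : Type u} [Field K] {str : Spec (CommRingCat.of K) ⟶ S}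
    {x₁ x₂ : (yon S).obj (Over.mk str) ⟶ E} (h₁ : IsVal s' sZ x₁) (h₂ : IsVal s' sZ x₂)
    (h : x₁ ≫ e = x₂ ≫ e) : x₁ = x₂ := by
  have : Mono i := mono_of_repWith (fun _ _ k (_ : IsClosedImmersion k) => inferInstance) hi
  rcases h₁ with ⟨l₁, rfl⟩ | ⟨z₁, rfl⟩ <;> rcases h₂ with ⟨l₂, rfl⟩ | ⟨z₂, rfl⟩ <;>
    simp only [Category.assoc, hs', hsZ] at h
  · by_cases ht : ∃ t, Points.ofPt (l₁ ≫ f) t ∈ Set.range (Points.map i)
    · obtain ⟨t, x, hx⟩ := ht
      obtain ⟨V, snd, fst, sq⟩ := hi.rep (l₁ ≫ f)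
      have : IsClosedImmersion snd.left := hi.property _ fst snd sq
      obtain ⟨v, -, hv⟩ := (map_eq_ofPt_iff sq x t).1 hx
      have : Surjective snd.left := ⟨fun t' => ⟨v, by
        rw [hv]; exact Subsingleton.elim (α := PrimeSpectrum K) _ _⟩⟩
      have : IsReduced (Over.mk str).left := inferInstanceAs (IsReduced (Spec (CommRingCat.of K)))
      haveI : IsIso snd.left := isIso_of_isClosedImmersion_of_surjective snd.left
      haveI : IsIso ((Over.forget S).map snd) := ‹IsIso snd.left›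
      haveI : IsIso snd := isIso_of_reflects_iso snd (Over.forget S)
      let z : (yon S).obj (Over.mk str) ⟶ Z := (yon S).map (inv snd) ≫ fst
      have hz : z ≫ i = l₁ ≫ f := by
        rw [Category.assoc, sq.w, ← Functor.map_comp_assoc, IsIso.inv_hom_id, (yon S).map_id,
          Category.id_comp]
      rw [hc l₁ z hz.symm, hc l₂ z (h.symm.trans hz.symm)]
    · rw [(H (l₁ ≫ f) fun t hm => ht ⟨t, hm⟩).unique rfl h.symm]
  · exact hc _ _ h
  · exact (hc _ _ h.symm).symm
  · rw [(cancel_mono i).1 h]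

variable (hY : IsAlgSpace Y) (hY' : IsAlgSpace Y') (hZ : IsAlgSpace Z) (hE : IsAlgSpace E)
  (he : IsEtaleMor e) (hf : IsUnivClosedMor f)

include hi hs' hsZ H hc in
/-- The two values of a point in the set of values agree after an extension. -/
theorem eq_of_mem_valSet {K : Type u} [Field K] {str : Spec (CommRingCat.of K) ⟶ S}
    {x v : (yon S).obj (Over.mk str) ⟶ E} (t : (Over.mk str).left)
    (hx : Points.ofPt x t ∈ valSet s' sZ) (hv : IsVal s' sZ v) (h : x ≫ e = v ≫ e) :
    ∃ (Ω : Type u) (_ : Field Ω) (w : Spec (CommRingCat.of Ω) ⟶ S) (ε : Over.mk w ⟶ Over.mk str),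
      (yon S).map ε ≫ x = (yon S).map ε ≫ v := by
  obtain ⟨Ω, hΩ, w, ε, hε⟩ := exists_isVal s' sZ x t hx
  exact ⟨Ω, hΩ, w, ε, isVal_unique f i e s' sZ hi hs' hsZ H hc hε (hv.precomp ε)
    (by rw [Category.assoc, Category.assoc, h])⟩

include hi hs' hsZ H hc in
/-- Points over a partial section with image a value lie on it. -/
theorem mem_range_of_mem_valSet {Q A : Sp S} (fst : Q ⟶ E) (snd : Q ⟶ A) (g : A ⟶ Y) (s : A ⟶ E)
    (sq : IsPullback fst snd e g) (σ : A ⟶ Q) (hσ₁ : σ ≫ fst = s) (hσ₂ : σ ≫ snd = 𝟙 A)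
    (hs : ∀ {T : Over S} (a : (yon S).obj T ⟶ A), IsVal s' sZ (a ≫ s)) (hse : s ≫ e = g)
    (p : Points Q) (hp : Points.map fst p ∈ valSet s' sZ) : p ∈ Set.range (Points.map σ) := by
  obtain ⟨r, rfl⟩ := Points.mk_surjective p
  let c := fieldPtHom r
  have t : r.pt.left := IsLocalRing.closedPoint r.K
  rw [← ofPt_fieldPtHom r t, Points.map_ofPt] at hp
  obtain ⟨Ω, hΩ, w, ε, hε⟩ := eq_of_mem_valSet f i e s' sZ hi hs' hsZ H hc t hp (hs (c ≫ snd))
    (by rw [Category.assoc, sq.w, Category.assoc, Category.assoc, hse])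
  have key : ((yon S).map ε ≫ c ≫ snd) ≫ σ = (yon S).map ε ≫ c := by
    refine sq.hom_ext ?_ ?_
    · rw [Category.assoc, hσ₁, Category.assoc, Category.assoc]
      refine Eq.trans ?_ hε.symm
      simp only [Category.assoc]
    · simp only [Category.assoc, hσ₂, Category.comp_id]
  let o : (Over.mk w).left := IsLocalRing.closedPoint Ω
  refine ⟨Points.ofPt ((yon S).map ε ≫ c ≫ snd) o, ?_⟩
  rw [Points.map_ofPt, key, ofPt_comp_yon, ofPt_fieldPtHom]

include hi hs' hsZ H hc hY hY' hZ hE he hf in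
/-- The set of values is open. -/
theorem isOpen_valSet : IsOpen (valSet s' sZ) := by
  let P := pullback e f
  let PZ := pullback e i
  have hP : IsAlgSpace P := isAlgSpace_of_isPullback (IsPullback.of_hasPullback e f) hY.diag hE hY'
  have hPZ : IsAlgSpace PZ := isAlgSpace_of_isPullback (IsPullback.of_hasPullback e i) hY.diag hE hZ
  let σ : Y' ⟶ P := pullback.lift s' (𝟙 _) (by rw [hs', Category.id_comp])
  let τ : Z ⟶ PZ := pullback.lift sZ (𝟙 _) (by rw [hsZ, Category.id_comp])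
  have hop : ∀ {A B : Sp S} (hA : IsAlgSpace A) (hB : IsAlgSpace B) (k : A ⟶ B), IsEtaleMor k →
      IsOpen (Set.range (Points.map k)) := fun hA hB k hk =>
    (isOpenMap_map_of_locP hA hB
      (fun U V x y h hx hy e => by
        have : Etale h.left := locP_of_isEtaleMor hk x y h hx hy e
        exact (inferInstance : Flat h.left))
      (fun U V x y h hx hy e => by
        have : Etale h.left := locP_of_isEtaleMor hk x y h hx hy e
        exact (inferInstance : LocallyOfFinitePresentation h.left))).isOpen_range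
  have hσ : IsOpen (Set.range (Points.map σ)) := hop hY' hP σ (isEtaleMor_of_comp hY' hP hY'
    (f := σ) (g := pullback.snd e f) (by rw [pullback.lift_snd]; exact isEtaleMor_id _)
    (isEtaleMor_of_isPullback hE hY hY' (IsPullback.of_hasPullback e f) he))
  have hτ : IsOpen (Set.range (Points.map τ)) := hop hZ hPZ τ (isEtaleMor_of_comp hZ hPZ hZ
    (f := τ) (g := pullback.snd e i) (by rw [pullback.lift_snd]; exact isEtaleMor_id _)
    (isEtaleMor_of_isPullback hE hY hZ (IsPullback.of_hasPullback e i) he))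
  have hf' : IsClosedMap (Points.map (pullback.fst e f)) :=
    hf hE e _ _ (IsPullback.of_hasPullback e f).flip
  have hi' : IsClosedMap (Points.map (pullback.fst e i)) :=
    isClosedMap_map_of_repWith (fun _ _ φ (_ : IsClosedImmersion φ) => φ.isClosedEmbedding.isClosedMap)
      (repWith_of_isPullback (IsPullback.of_hasPullback e i).flip hi)
  have key : (valSet s' sZ)ᶜ = Points.map (pullback.fst e f) '' (Set.range (Points.map σ))ᶜ ∪
      Points.map (pullback.fst e i) '' (Set.range (Points.map τ))ᶜ := by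
    ext x
    constructor
    · intro hx
      by_cases hyi : Points.map e x ∈ Set.range (Points.map i)
      · obtain ⟨z, hz⟩ := hyi
        obtain ⟨p, hp, -⟩ := Groth.AlgSpBasic.exists_point_of_isPullback
          (IsPullback.of_hasPullback e i) x z hz.symm
        refine Or.inr ⟨p, ?_, hp⟩
        rintro ⟨z', rfl⟩
        refine hx (Or.inr ⟨z', ?_⟩)
        rw [← hp, ← Points.map_comp, pullback.lift_fst]
      · obtain ⟨r, hr⟩ := Points.mk_surjective (Points.map e x)
        obtain ⟨l, hl, -⟩ := H (fieldPtHom r) fun t => by rwa [ofPt_fieldPtHom r t, hr]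
        have hy : Points.map e x = Points.map f (Points.ofPt l (IsLocalRing.closedPoint r.K)) := by
          rw [Points.map_ofPt, hl, ofPt_fieldPtHom, hr]
        obtain ⟨p, hp, -⟩ := Groth.AlgSpBasic.exists_point_of_isPullback
          (IsPullback.of_hasPullback e f) x _ hy
        refine Or.inl ⟨p, ?_, hp⟩
        rintro ⟨y', rfl⟩
        refine hx (Or.inl ⟨y', ?_⟩)
        rw [← hp, ← Points.map_comp, pullback.lift_fst]
    · rintro (⟨p, hp, rfl⟩ | ⟨p, hp, rfl⟩) hm
      · exact hp (mem_range_of_mem_valSet f i e s' sZ hi hs' hsZ H hc _ _ f s'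
          (IsPullback.of_hasPullback e f) σ (pullback.lift_fst _ _ _) (pullback.lift_snd _ _ _)
          (fun a => Or.inl ⟨a, rfl⟩) hs' p hm)
      · exact hp (mem_range_of_mem_valSet f i e s' sZ hi hs' hsZ H hc _ _ i sZ
          (IsPullback.of_hasPullback e i) τ (pullback.lift_fst _ _ _) (pullback.lift_snd _ _ _)
          (fun a => Or.inr ⟨a, rfl⟩) hsZ p hm)
  rw [← isClosed_compl_iff, key]
  exact (hf' _ hσ.isClosed_compl).union (hi' _ hτ.isClosed_compl)

include hi hs' hsZ H hc hY hY' hZ hE he hf in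
/-- Compatible sections over the modification and the centre glue uniquely. -/
theorem existsUnique_section :
    ∃! s : Y ⟶ E, s ≫ e = 𝟙 Y ∧ f ≫ s = s' ∧ i ≫ s = sZ := by
  have hW : IsOpen (valSet s' sZ) :=
    isOpen_valSet f i e s' sZ hi hs' hsZ H hc hY hY' hZ hE he hf
  let G := openSub E (valSet s' sZ)
  let ι : G ⟶ E := openSubι E (valSet s' sZ)
  have hι : RepWith @IsOpenImmersion ι := repWith_openSubι hW
  have : Mono ι := mono_openSubι hW
  have hG : IsAlgSpace G := isAlgSpace_openSub hE hW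
  have hge : IsEtaleMor (ι ≫ e) := isEtaleMor_comp
    (Groth.AlgSpBasic.ColimitSep.isEtaleMor_of_repWith hE
      (repWith_mono (fun _ _ k (_ : IsOpenImmersion k) => (inferInstance : Etale k)) hι)) he
  have hdiag : RepWith @IsOpenImmersion (pullback.diagonal e) :=
    repWith_diagonal_of_unramified hE hY (locP_mono etale_le_unramified (locP_of_isEtaleMor he))
  have : Mono (ι ≫ e) := ⟨fun {A} g₁ g₂ h => Groth.AlgSp2.hom_ext_yon fun T x => by
    rw [← cancel_mono ι]
    let a₁ := (x ≫ g₁) ≫ ι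
    let a₂ := (x ≫ g₂) ≫ ι
    show a₁ = a₂
    have ha : a₁ ≫ e = a₂ ≫ e := by simp only [a₁, a₂, Category.assoc, h]
    obtain ⟨O, o, fo, sqO⟩ := hdiag.rep (pullback.lift a₁ a₂ ha)
    have : IsOpenImmersion o.left := hdiag.property _ fo o sqO
    have ho : (yon S).map o ≫ a₁ = (yon S).map o ≫ a₂ := by
      have h₁ := sqO.w =≫ pullback.fst e e
      have h₂ := sqO.w =≫ pullback.snd e e
      simp only [Category.assoc, pullback.diagonal_fst, pullback.diagonal_snd, Category.comp_id,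
        pullback.lift_fst, pullback.lift_snd] at h₁ h₂
      rw [← h₁, ← h₂]
    have : Surjective o.left := ⟨fun t => by
      let κ : (FieldPt.ofPt a₁ t).pt ⟶ T := Over.homMk (T.left.fromSpecResidueField t) rfl
      let o₀ : (FieldPt.ofPt a₁ t).pt.left := IsLocalRing.closedPoint _
      have hm : ∀ (g : A ⟶ G), Points.ofPt ((yon S).map κ ≫ (x ≫ g) ≫ ι) o₀ ∈ valSet s' sZ := fun g =>
        range_map_openSubι.le ⟨Points.ofPt ((yon S).map κ ≫ x ≫ g) o₀,
          by rw [Points.map_ofPt, Category.assoc]⟩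
      obtain ⟨Ω₁, hΩ₁, w₁, ε₁, hε₁⟩ := exists_isVal s' sZ _ o₀ (hm g₁)
      obtain ⟨Ω₂, hΩ₂, w₂, ε₂, hε₂⟩ := exists_isVal s' sZ ((yon S).map ε₁ ≫ (yon S).map κ ≫ a₂)
        (IsLocalRing.closedPoint Ω₁) (by
          rw [ofPt_comp_yon]
          convert hm g₂ using 2
          exact Subsingleton.elim (α := PrimeSpectrum _) _ _)
      have he₂ : (yon S).map ε₂ ≫ (yon S).map ε₁ ≫ (yon S).map κ ≫ a₁ =
          (yon S).map ε₂ ≫ (yon S).map ε₁ ≫ (yon S).map κ ≫ a₂ :=
        isVal_unique f i e s' sZ hi hs' hsZ H hc (hε₁.precomp ε₂) hε₂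
          (by simp only [Category.assoc, ha])
      have w : ((yon S).map ε₂ ≫ (yon S).map ε₁ ≫ (yon S).map κ ≫ a₁) ≫ pullback.diagonal e =
          (yon S).map (ε₂ ≫ ε₁ ≫ κ) ≫ pullback.lift a₁ a₂ ha := by
        refine pullback.hom_ext ?_ ?_
        · simp only [Functor.map_comp, Category.assoc, pullback.diagonal_fst, Category.comp_id,
            pullback.lift_fst]
        · simp only [Functor.map_comp, Category.assoc, pullback.diagonal_snd, Category.comp_id,
            pullback.lift_snd, he₂]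
      obtain ⟨m, hm'⟩ := (yon S).map_surjective (sqO.lift _ _ w)
      have hmo : m ≫ o = ε₂ ≫ ε₁ ≫ κ := (yon S).map_injective (by
        rw [Functor.map_comp, hm', sqO.lift_snd])
      refine ⟨m.left (IsLocalRing.closedPoint Ω₂), ?_⟩
      rw [← Scheme.Hom.comp_apply, ← Over.comp_left, hmo]
      exact Scheme.fromSpecResidueField_apply t _⟩
    haveI : IsIso o.left := (isIso_iff_isOpenImmersion_and_surjective o.left).2 ⟨‹_›, ‹_›⟩
    haveI : IsIso ((Over.forget S).map o) := ‹IsIso o.left›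
    haveI : IsIso o := isIso_of_reflects_iso o (Over.forget S)
    exact (cancel_epi ((yon S).map o)).1 ho⟩
  have hsurj : Function.Surjective (Points.map (ι ≫ e)) := fun y => by
    have hex : ∃ x ∈ valSet s' sZ, Points.map e x = y := by
      by_cases hy : y ∈ Set.range (Points.map i)
      · obtain ⟨z, rfl⟩ := hy
        exact ⟨Points.map sZ z, Or.inr ⟨z, rfl⟩, by rw [← Points.map_comp, hsZ]⟩
      · obtain ⟨r, rfl⟩ := Points.mk_surjective y
        obtain ⟨l, hl, -⟩ := H (fieldPtHom r) fun t => by rwa [ofPt_fieldPtHom r t]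
        refine ⟨Points.map s' (Points.ofPt l (IsLocalRing.closedPoint r.K)), Or.inl ⟨_, rfl⟩, ?_⟩
        rw [← Points.map_comp, hs', Points.map_ofPt, hl, ofPt_fieldPtHom]
    obtain ⟨x, hx, rfl⟩ := hex
    obtain ⟨z, rfl⟩ := (range_map_openSubι (X := E) (W := valSet s' sZ)).ge hx
    exact ⟨z, Points.map_comp _ _ _⟩
  have : Epi (ι ≫ e) := by
    obtain ⟨T, p, hp, hps⟩ := hG.atlas
    have hpe : RepWith @Etale (p ≫ ι ≫ e) := hge p hp
    have hpes : RepWith @Surjective (p ≫ ι ≫ e) := repWith_surjective_of_ofPt hpe.rep fun y => by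
      obtain ⟨z, rfl⟩ := hsurj y
      obtain ⟨t, rfl⟩ := surjective_ofPt_of_repWith hps z
      exact ⟨t, (Points.map_ofPt _ _ _).symm⟩
    have := isLocallySurjective_of_etale _ hpe hpes
    have : Epi (p ≫ ι ≫ e) := inferInstance
    exact epi_of_epi p (ι ≫ e)
  haveI := isIso_of_mono_of_epi (ι ≫ e)
  obtain ⟨g', hg'⟩ := exists_openSub_factor hW s' Set.subset_union_left
  obtain ⟨gZ, hgZ⟩ := exists_openSub_factor hW sZ Set.subset_union_right
  refine ⟨inv (ι ≫ e) ≫ ι, ⟨?_, ?_, ?_⟩, fun s ⟨h₁, h₂, h₃⟩ => ?_⟩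
  · rw [Category.assoc, IsIso.inv_hom_id]
  · rw [← hg', ← Category.assoc]
    congr 1
    rw [IsIso.comp_inv_eq, ← Category.assoc, hg', hs']
  · rw [← hgZ, ← Category.assoc]
    congr 1
    rw [IsIso.comp_inv_eq, ← Category.assoc, hgZ, hsZ]
  · obtain ⟨g, hg⟩ := exists_openSub_factor hW s (by
      rintro _ ⟨y, rfl⟩
      by_cases hy : y ∈ Set.range (Points.map i)
      · obtain ⟨z, rfl⟩ := hy
        exact Or.inr ⟨z, by rw [← Points.map_comp, h₃]⟩
      · obtain ⟨r, rfl⟩ := Points.mk_surjective y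
        obtain ⟨l, hl, -⟩ := H (fieldPtHom r) fun t => by rwa [ofPt_fieldPtHom r t]
        refine Or.inl ⟨Points.ofPt l (IsLocalRing.closedPoint r.K), ?_⟩
        rw [← h₂, Points.map_comp, Points.map_ofPt, hl, ofPt_fieldPtHom])
    rw [← hg]
    congr 1
    refine (cancel_mono (ι ≫ e)).1 ?_
    rw [IsIso.inv_hom_id, ← Category.assoc, hg, h₁]

end

end

end Groth.AlgSp2.ModifSections
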